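import Groth.Agent.NodalTreeLib.Main
import Groth.Agent.BlowRegLib.PosA
import Groth.Agent.VBResLib.GGen
import Groth.Agent.MiscFlat6.TensorGG

/-!
# Gluing global generation along a tree
-/

set_option autoImplicit false
set_option linter.style.haveILetI false
set_option linter.unusedSectionVars false
set_option maxHeartbeats 1000000
set_option synthInstance.maxHeartbeats 200000
set_option backward.isDefEq.respectTransparency false
set_option backward.isDefEq.respectTransparency.types false

universe u

open CategoryTheory CategoryTheory.Limits AlgebraicGeometry TopologicalSpace MonoidalCategory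
open NefH1Lib.Subcurve
open NefH1Lib.Adj
open DevissLib (St)
open IsLocalRing (maximalIdeal)
open Groth.Agent

attribute [local instance] HasDerivedCategory.standard

noncomputable section

namespace NodalTreeLib

section General

variable {X : Scheme.{u}}

/-- Restriction of `E` to the union of some components. -/
abbrev EB (E : X.Modules) (T : Set X) : X.Modules := CohB1.tensorMod E (ClSub.quotMod (sub T))

theorem le_sub {S U : Set X} (h : S ⊆ U) : sub U ≤ sub S :=
  (Scheme.IdealSheafData.le_support_iff_le_vanishingIdeal).mp (by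
    intro a ha
    show a ∈ ((sub U).support : Set X)
    rw [support_sub]
    exact closure_mono h ha)

/-- The kernel of a twisted restriction lies in the maximal ideal times everything. -/
theorem ker_le_smul [IsReduced X] (E : X.Modules) {U B : Set X}
    (r : ClSub.quotMod (sub U) ⟶ ClSub.quotMod (sub B)) [Epi r] {x : X} (hx : x ∈ closure B)
    (a : (St x).obj (EB E U)) (ha : ((St x).map (SerreVanLib.tmap E r)).hom a = 0) :
    a ∈ maximalIdeal (X.presheaf.stalk x) • (⊤ : Submodule (X.presheaf.stalk x) ((St x).obj (EB E U))) := by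
  let R := X.presheaf.stalk x
  let e := KFlatLib.stalkTensorIso E (ClSub.quotMod (sub U)) x
  let e' := KFlatLib.stalkTensorIso E (ClSub.quotMod (sub B)) x
  let rx := ((St x).map r).hom
  have hsurj : Function.Surjective rx := (ModuleCat.epi_iff_surjective ((St x).map r)).mp inferInstance
  have hnat := KFlatLib.stalkTensorIso_natural_right (M := E) x r
  obtain ⟨b, rfl⟩ := (ModuleCat.epi_iff_surjective e.hom).mp inferInstance a
  have hb : LinearMap.lTensor ((St x).obj E) rx b = 0 := by
    refine (ModuleCat.mono_iff_injective e'.hom).mp inferInstance ?_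
    rw [map_zero]
    have h1 := congrArg (fun f => (ModuleCat.Hom.hom f) b) hnat
    exact h1.trans ha
  obtain ⟨c, rfl⟩ := (lTensor_exact ((St x).obj E) (LinearMap.exact_subtype_ker_map rx) hsurj b).mp hb
  have hk : ∀ w : LinearMap.ker rx, ∃ s ∈ maximalIdeal R, ∃ v, (w : (St x).obj (ClSub.quotMod (sub U))) = s • v := by
    intro w
    obtain ⟨v, hv⟩ := exists_gen_quot (sub U) x
    obtain ⟨s, hs⟩ := hv w.1
    refine ⟨s, fun hu => ?_, v, hs.symm⟩
    haveI := nontrivial_quot (X := X) (J := sub B) (x := x) ((support_sub B).ge hx)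
    obtain ⟨z, hz⟩ := exists_ne (0 : (St x).obj (ClSub.quotMod (sub B)))
    obtain ⟨y, rfl⟩ := hsurj z
    obtain ⟨t, rfl⟩ := hv y
    refine hz ?_
    have h0 : s • rx v = 0 := by rw [← map_smul, hs]; exact w.2
    rw [map_smul, show rx v = 0 from (hu.smul_eq_zero).mp h0, smul_zero]
  induction c using TensorProduct.induction_on with
  | zero => simp
  | tmul y w =>
    obtain ⟨s, hs, v, hw⟩ := hk w
    rw [LinearMap.lTensor_tmul, Submodule.subtype_apply, hw, TensorProduct.tmul_smul, map_smul]
    exact Submodule.smul_mem_smul hs trivial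
  | add y z hy hz =>
    have key : ∀ p q : TensorProduct R ((St x).obj E) (LinearMap.ker rx),
        LinearMap.lTensor ((St x).obj E) rx (LinearMap.lTensor _ (LinearMap.ker rx).subtype p) = 0 := fun p _ =>
      (lTensor_exact ((St x).obj E) (LinearMap.exact_subtype_ker_map rx) hsurj _).mpr ⟨p, rfl⟩
    have hmem : ∀ p, ((St x).map (SerreVanLib.tmap E r)).hom
        (e.hom (LinearMap.lTensor ((St x).obj E) (LinearMap.ker rx).subtype p)) = 0 := fun p => by
      have h1 := congrArg (fun f => (ModuleCat.Hom.hom f) (LinearMap.lTensor ((St x).obj E) (LinearMap.ker rx).subtype p)) hnat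
      refine h1.symm.trans ?_
      show e'.hom (LinearMap.lTensor ((St x).obj E) rx _) = 0
      rw [key p p, map_zero]
    rw [map_add, map_add]
    exact add_mem (hy (hmem y) (key y y)) (hz (hmem z) (key z z))

/-- A tensor product with a vanishing stalk has vanishing stalk. -/
theorem subsingleton_tens (A M : X.Modules) {x : X} (h : Subsingleton ((St x).obj M)) :
    Subsingleton ((St x).obj (CohB1.tensorMod A M)) := by
  refine subsingleton_of_forall_eq 0 fun a => ?_
  obtain ⟨b, rfl⟩ := (ModuleCat.epi_iff_surjective (KFlatLib.stalkTensorIso A M x).hom).mp inferInstance a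
  induction b using TensorProduct.induction_on with
  | zero => exact map_zero _
  | tmul y w => rw [h.elim w 0, TensorProduct.tmul_zero, map_zero]
  | add y z hy hz => rw [map_add, hy, hz, add_zero]

/-- Tensoring keeps epimorphisms. -/
theorem epi_tmap (A : X.Modules) {B C : X.Modules} (d : B ⟶ C) [Epi d] : Epi (SerreVanLib.tmap A d) := by
  let T : X.Modules ⥤ X.Modules := (DCoh.tensorBi (X := X)).obj A
  haveI : PreservesColimitsOfSize.{u, u} T := ModSiteLib.preservesColimits_tensor X.sheaf A
  haveI : PreservesColimitsOfSize.{0, 0} T := preservesColimitsOfSize_shrink.{0, u, 0, u} T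
  haveI : T.PreservesEpimorphisms := preservesEpimorphisms_of_preservesColimitsOfShape T
  exact T.map_epi d

end General

section Field

variable (k : Type u) [Field k] [IsAlgClosed k] {X : Scheme.{u}} [X.Over (Spec (CommRingCat.of k))]
  [IsProper (X ↘ Spec (CommRingCat.of k))] [IsReduced X]

/-- A connected union of components has only constant functions. -/
theorem h0_quot_sub {T : Set X} (hc : ConnectedSpace (sub T).subscheme) :
    Module.finrank k (Coh.HH X (ClSub.quotMod (sub T)) 0) = 1 := by
  letI : (sub T).subscheme.Over (Spec (CommRingCat.of k)) :=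
    ⟨(sub T).subschemeι ≫ (X ↘ Spec (CommRingCat.of k))⟩
  haveI : IsProper ((sub T).subscheme ↘ Spec (CommRingCat.of k)) :=
    inferInstanceAs (IsProper ((sub T).subschemeι ≫ (X ↘ Spec (CommRingCat.of k))))
  haveI : IsReduced (sub T).subscheme := DevissLib.isReduced_vanishingIdeal' _
  haveI := hc
  haveI : Coh.IsQCoh (Coh.structureModule (sub T).subscheme) := QCohLib.isQCoh_unit
  obtain ⟨hn, -⟩ := PushLinLib.euler_push k (X := (sub T).subscheme) (Y := X) (sub T).subschemeι rfl
    (Coh.structureModule (sub T).subscheme)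
  exact (hn 0).symm.trans (NefH1Lib.Adj.finrank_h0 k)

include k

variable (hdim : topologicalKrullDim X = 1)
  (hh1 : ∀ T : Set X, Subsingleton (Coh.HH X (ClSub.quotMod (sub T)) 1))
  {E : X.Modules} {n : ℕ} (hEn : FlatMod.IsFinLocFreeOfRank n E)

include hdim hh1 in
/-- The kernel of restricting from a union to one part is acyclic. -/
theorem h1_kernel {U B : Set X} (hUc : ConnectedSpace (sub U).subscheme) (hBc : ConnectedSpace (sub B).subscheme)
    (r : ClSub.quotMod (sub U) ⟶ ClSub.quotMod (sub B)) [Epi r]
    (hr : ClSub.toSubscheme (sub U) ≫ r = ClSub.toSubscheme (sub B)) :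
    Subsingleton (Coh.HH X (kernel r) 1) := by
  haveI := CurvLib.isNoetherian k (X := X)
  haveI : EnoughInjectives X.Modules := IsGrothendieckAbelian.enoughInjectives.{u}
  haveI : HasExt.{u} X.Modules := hasExt_of_enoughInjectives.{u} X.Modules
  have hd1 : topologicalKrullDim X ≤ ((1 : ℕ) : WithBot ℕ∞) := by simpa using hdim.le
  have hQ : ∀ S : Set X, Coh.IsCoh (ClSub.quotMod (sub S)) := fun S => CurvLib.isCoh_quotMod _
  have hK : Coh.IsCoh (kernel r) := QCohLib.isCoh_kernel r (hQ U) (hQ B).1
  haveI := CurvLib.finite_HH (k := k) hK 0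
  haveI := CurvLib.finite_HH (k := k) hK 1
  have hne : ∀ S : Set X, ConnectedSpace (sub S).subscheme → ClSub.toSubscheme (sub S) ≠ 0 := by
    intro S hS h0
    obtain ⟨y⟩ := (inferInstance : Nonempty (sub S).subscheme)
    refine nontrivial_quotMod_stalk (sub S) ((sub S).range_subschemeι.le ⟨y, rfl⟩) ?_
    rw [h0]
    exact map_zero _
  have hone : Module.finrank k (Coh.structureModule X ⟶ ClSub.quotMod (sub U)) = 1 :=
    (NefH1Lib.Subcurve.homUnit (k := k) _).finrank_eq.trans (h0_quot_sub k hUc)
  haveI : Subsingleton (Coh.structureModule X ⟶ kernel r) := subsingleton_of_forall_eq 0 fun s => by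
    obtain ⟨c, hc⟩ := exists_smul_eq_of_finrank_eq_one hone (hne U hUc) (s ≫ kernel.ι r)
    have h1 : c • ClSub.toSubscheme (sub B) = 0 := by
      rw [← hr, ← Linear.smul_comp, hc, Category.assoc, kernel.condition, comp_zero]
    rcases smul_eq_zero.mp h1 with rfl | h2
    · rw [← cancel_mono (kernel.ι r), ← hc, zero_smul, zero_comp]
    · exact absurd h2 (hne B hBc)
  haveI : Subsingleton (Coh.HH X (kernel r) 0) :=
    (NefH1Lib.Subcurve.homUnit (k := k) (kernel r)).symm.toEquiv.subsingleton
  have hadd := CurvLib.euler_add_of_isCoh (k := k) (S := ShortComplex.mk (kernel.ι r) r (kernel.condition r))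
    (NefH1Lib.kernel_shortExact r) hK (hQ U) (hQ B)
  have hvn : ∀ M : X.Modules, ∀ n, 2 ≤ n → Subsingleton (Coh.HH X M n) := fun M n hn =>
    CurvLib.subsingleton_HH_of_dim_le M hd1 n (by omega)
  haveI := hh1 U
  haveI := hh1 B
  simp only [CurvLib.euler_eq_sub (k := k) (hvn _)] at hadd
  rw [h0_quot_sub k hUc, h0_quot_sub k hBc, Module.finrank_zero_of_subsingleton (R := k) (M := Coh.HH X (ClSub.quotMod (sub U)) 1),
    Module.finrank_zero_of_subsingleton (R := k) (M := Coh.HH X (ClSub.quotMod (sub B)) 1),
    Module.finrank_zero_of_subsingleton (R := k) (M := Coh.HH X (kernel r) 0)] at hadd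
  exact (Module.finrank_zero_iff (R := k)).mp (by omega)

include hdim hh1 hEn in
/-- Sections on one part extend to the union. -/
theorem surj_sections {U A B : Set X} (hUm : ∀ η ∈ U, IsMaxPt η) (hU : U = A ∪ B)
    (hUc : ConnectedSpace (sub U).subscheme) (hBc : ConnectedSpace (sub B).subscheme)
    (hggA : Curv2.IsGloballyGenerated (EB E A)) (r : ClSub.quotMod (sub U) ⟶ ClSub.quotMod (sub B)) [Epi r]
    (hr : ClSub.toSubscheme (sub U) ≫ r = ClSub.toSubscheme (sub B)) :
    Function.Surjective ((SerreVanLib.tmap E r).app ⊤) := by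
  haveI := CurvLib.isNoetherian k (X := X)
  haveI := NodalLib.isSeparated_of_proper k (X := X)
  haveI : CompactSpace X := QuasiCompact.compactSpace_of_compactSpace (X ↘ Spec (CommRingCat.of k))
  have hE : Coh.IsCoh E := LocSuppLib.isCoh_of_isFinLocFree (CurveVBLib.isFinLocFree_of_rank hEn)
  have hQ : ∀ S : Set X, Coh.IsCoh (ClSub.quotMod (sub S)) := fun S => CurvLib.isCoh_quotMod _
  have hK : Coh.IsCoh (kernel r) := QCohLib.isCoh_kernel r (hQ U) (hQ B).1
  have hUf : U.Finite := finite_maxPts.subset hUm
  have hAm : ∀ η ∈ A, IsMaxPt η := fun η h => hUm η (hU ▸ Or.inl h)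
  have hBf : B.Finite := hUf.subset (hU ▸ Set.subset_union_right)
  have hAf : A.Finite := hUf.subset (hU ▸ Set.subset_union_left)
  obtain ⟨r', hr', hre'⟩ := exists_quot_map (le_sub (show A ⊆ U from hU ▸ Set.subset_union_left))
  haveI := hre'
  let c := kernel.ι r ≫ r'
  have hKinj : ∀ η, Function.Injective ((St η).map (kernel.ι r)).hom := fun η =>
    (ModuleCat.mono_iff_injective ((St η).map (kernel.ι r))).mp inferInstance
  have hker : ∀ (η : X) a, ((St η).map r).hom (((St η).map (kernel.ι r)).hom a) = 0 := fun η a => by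
    rw [← LinearMap.comp_apply, ← ModuleCat.hom_comp, ← Functor.map_comp, kernel.condition, Functor.map_zero]
    rfl
  have hinj : ∀ (S : Set X) (p : ClSub.quotMod (sub U) ⟶ ClSub.quotMod (sub S)) [Epi p] (η : X),
      IsMaxPt η → η ∈ S → Function.Injective ((St η).map p).hom := by
    intro S p _ η hη hS
    obtain ⟨v, hv⟩ := exists_gen_quot (sub U) η
    refine injective_of_cyclic (isField_stalk hη) v hv _ fun h0 => ?_
    haveI := nontrivial_quot (X := X) (mem_sub hS)
    obtain ⟨b, hb⟩ := exists_ne (0 : (St η).obj (ClSub.quotMod (sub S)))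
    obtain ⟨c, rfl⟩ := (ModuleCat.epi_iff_surjective ((St η).map p)).mp inferInstance b
    exact hb (LinearMap.congr_fun h0 c)
  have hKdet : Detected (kernel r) := detected_of_mono (kernel.ι r) (detected_quot k hUf hUm)
  haveI : Mono c := by
    refine mono_of_detected c hKdet fun η hη => ?_
    by_cases hηA : η ∈ A
    · rw [Functor.map_comp, ModuleCat.hom_comp]
      exact (hinj A r' η hη hηA).comp (hKinj η)
    · intro a b _
      refine hKinj η ?_
      by_cases hηB : η ∈ B
      · exact hinj B r η hη hηB ((hker η a).trans (hker η b).symm)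
      · haveI := subsingleton_quot (notMem_sub hUf hη (fun h => (hU ▸ h : η ∈ A ∪ B).elim hηA hηB))
        exact Subsingleton.elim _ _
  -- the kernel is a module over the other part
  let F : X.Modules ⥤ X.Modules := (DCoh.tensorBi (X := X)).obj (kernel r)
  haveI : PreservesColimitsOfSize.{u, u} F := ModSiteLib.preservesColimits_tensor X.sheaf (kernel r)
  haveI : PreservesColimitsOfSize.{0, 0} F := preservesColimitsOfSize_shrink.{0, u, 0, u} F
  let w : F.obj (Coh.structureModule X) ≅ kernel r :=
    KFlatLib.tensSwap (Coh.structureModule X) _ ≪≫ KFlatLib.tensUnitIso _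
  have hz : F.map (ClSub.idealModι (sub A)) ≫ w.hom = 0 := by
    refine eq_zero_of_detected _ hKdet fun η hη => LinearMap.ext fun a => ?_
    by_cases hηA : η ∈ A
    · haveI := subsingleton_ideal hη (mem_sub hηA)
      haveI : Subsingleton ((St η).obj (F.obj (ClSub.idealMod (sub A)))) :=
        subsingleton_tens (kernel r) (ClSub.idealMod (sub A)) inferInstance
      rw [Subsingleton.elim a 0, map_zero, map_zero]
    · haveI := subsingleton_quot (notMem_sub hAf hη hηA)
      refine (ModuleCat.mono_iff_injective ((St η).map c)).mp inferInstance ?_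
      exact Subsingleton.elim _ _
  have hcok := CokernelCofork.mapIsColimit _ (CurvLib.idealSeq_shortExact (sub A)).gIsCokernel F
  obtain ⟨d, hd⟩ := CokernelCofork.IsColimit.desc' hcok w.hom hz
  haveI : Epi d := epi_of_epi_fac hd
  have hv : Subsingleton (Coh.HH X (CohB1.tensorMod E (kernel r)) 1) := by
    have hvan : ∀ N : X.Modules, Coh.IsQCoh N → Subsingleton (Coh.HH X N 2) := fun N _ => NodalLib.hvan k hdim N
    have h1 := NodalLib.h1_tensor_gg hvan hK.1 (h1_kernel k hdim hh1 hUc hBc r hr) hggA
      (BddFamLib.isCoh_tensorMod hK (BddFamLib.isCoh_tensorMod hE (hQ A))).1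
    haveI := @epi_tmap X E _ _ d ‹Epi d›
    let g : CohB1.tensorMod (kernel r) (EB E A) ⟶ CohB1.tensorMod E (kernel r) :=
      (HilbPolyLib.leftComm (kernel r) E (ClSub.quotMod (sub A))).hom ≫ SerreVanLib.tmap E d
    haveI : Epi g := epi_comp _ _
    exact NefH1Lib.h1_of_epi hvan (BddFamLib.isCoh_tensorMod hK (BddFamLib.isCoh_tensorMod hE (hQ A))).1
      (BddFamLib.isCoh_tensorMod hE hK).1 g h1
  intro t
  obtain ⟨z, hz'⟩ := LichtLib.surjective_g (CurvLib.shortExact_tensor_locFree hEn (NefH1Lib.kernel_shortExact r)) hv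
    ((DegPullLib.e0 _).symm t)
  refine ⟨DegPullLib.e0 _ z, ?_⟩
  exact (NefH1Lib.e0_map (SerreVanLib.tmap E r) z).symm.trans
    ((congrArg (DegPullLib.e0 _) hz').trans (AddEquiv.apply_symm_apply _ _))

include k hEn in
/-- A map killing sections, seen from one part. -/
theorem stalk_eq_zero {U B : Set X} (r : ClSub.quotMod (sub U) ⟶ ClSub.quotMod (sub B)) [Epi r]
    (hs : Function.Surjective ((SerreVanLib.tmap E r).app ⊤)) (hgg : Curv2.IsGloballyGenerated (EB E B))
    {N : X.Modules} (q : EB E U ⟶ N) (hq : ∀ v : Γ(EB E U, ⊤), q.app ⊤ v = 0) {x : X} (hx : x ∈ closure B) :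
    ((St x).map q).hom = 0 := by
  haveI := CurvLib.isNoetherian k (X := X)
  let f : EB E U ⟶ EB E B := SerreVanLib.tmap E r
  haveI : Epi f := epi_tmap E r
  let π := cokernel.π (kernel.ι f ≫ q)
  obtain ⟨g, hg⟩ := CokernelCofork.IsColimit.desc' (NefH1Lib.kernel_shortExact f).gIsCokernel (q ≫ π)
    (by rw [← Category.assoc]; exact cokernel.condition _)
  change f ≫ g = q ≫ π at hg
  have hg0 : g = 0 := MiscFlat6.cancel_of_isGloballyGenerated hgg g fun t => by
    obtain ⟨v, rfl⟩ := hs t
    show (f ≫ g).app ⊤ v = 0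
    rw [hg]
    show π.app ⊤ (q.app ⊤ v) = 0
    rw [hq, map_zero]
  let m := maximalIdeal (X.presheaf.stalk x)
  let qx := ((St x).map q).hom
  haveI : Module.Finite (X.presheaf.stalk x) ((St x).obj E) :=
    Module.Finite.equiv (CurvLib.nonempty_stalk_pi_of_locFree hEn x).some.symm
  haveI : Module.Finite (X.presheaf.stalk x) ((St x).obj (EB E U)) := by
    haveI := epi_tmap E (ClSub.toSubscheme (sub U))
    let p : E ⟶ EB E U := (KFlatLib.tensSwap (Coh.structureModule X) E ≪≫ KFlatLib.tensUnitIso E).inv ≫
      SerreVanLib.tmap E (ClSub.toSubscheme (sub U))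
    haveI : Epi p := epi_comp _ _
    exact Module.Finite.of_surjective ((St x).map p).hom
      ((ModuleCat.epi_iff_surjective ((St x).map p)).mp inferInstance)
  have hle : LinearMap.range qx ≤ m • LinearMap.range qx := by
    rintro _ ⟨a, rfl⟩
    have hex := (ShortComplex.exact_cokernel (kernel.ι f ≫ q)).map (St x)
    have hz : ((St x).map π).hom (qx a) = 0 := by
      rw [← LinearMap.comp_apply, ← ModuleCat.hom_comp, ← Functor.map_comp, ← hg, hg0, comp_zero, Functor.map_zero]
      rfl
    obtain ⟨b, hb⟩ := (ShortComplex.moduleCat_exact_iff _).mp hex (qx a) hz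
    have hk := ker_le_smul E r hx (((St x).map (kernel.ι f)).hom b) (by
      show ((St x).map f).hom _ = 0
      rw [← LinearMap.comp_apply, ← ModuleCat.hom_comp, ← Functor.map_comp, kernel.condition, Functor.map_zero]
      rfl)
    have hb' : qx (((St x).map (kernel.ι f)).hom b) = qx a := by
      rw [← hb]
      show _ = ((St x).map (kernel.ι f ≫ q)).hom b
      rw [Functor.map_comp]
      rfl
    rw [← hb', LinearMap.range_eq_map, ← Submodule.map_smul'']
    exact Submodule.mem_map_of_mem hk
  refine LinearMap.range_eq_bot.mp (Submodule.eq_bot_of_le_smul_of_le_jacobson_bot m _ ?_ hle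
    (IsLocalRing.maximalIdeal_le_jacobson ⊥))
  rw [LinearMap.range_eq_map]
  exact Submodule.FG.map _ Module.Finite.fg_top

include hdim hh1 hEn in
/-- Global generation glues along connected unions. -/
theorem gg_union {U A B : Set X} (hUm : ∀ η ∈ U, IsMaxPt η) (hU : U = A ∪ B)
    (hUc : ConnectedSpace (sub U).subscheme) (hAc : ConnectedSpace (sub A).subscheme)
    (hBc : ConnectedSpace (sub B).subscheme)
    (hggA : Curv2.IsGloballyGenerated (EB E A)) (hggB : Curv2.IsGloballyGenerated (EB E B)) :
    Curv2.IsGloballyGenerated (EB E U) := by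
  refine MiscFlat6.isGloballyGenerated_of_cancel _ fun N q hq => eq_zero_of_stalks' q fun x => ?_
  by_cases hxB : x ∈ closure B
  · obtain ⟨r, hr, hre⟩ := exists_quot_map (le_sub (show B ⊆ U from hU ▸ Set.subset_union_right))
    haveI := hre
    exact stalk_eq_zero k hEn r (surj_sections k hdim hh1 hEn hUm hU hUc hBc hggA r hr) hggB q hq hxB
  by_cases hxA : x ∈ closure A
  · obtain ⟨r, hr, hre⟩ := exists_quot_map (le_sub (show A ⊆ U from hU ▸ Set.subset_union_left))
    haveI := hre
    exact stalk_eq_zero k hEn r (surj_sections k hdim hh1 hEn hUm (hU.trans (Set.union_comm A B)) hUc hAc hggB r hr)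
      hggA q hq hxA
  · haveI := subsingleton_quot (X := X) (J := sub U) (x := x) (by
      rw [support_sub, hU, closure_union]
      exact fun h => h.elim hxA hxB)
    haveI : Subsingleton ((St x).obj (EB E U)) := subsingleton_tens E _ inferInstance
    exact LinearMap.ext fun a => by rw [Subsingleton.elim a 0, map_zero, map_zero]

end Field

end NodalTreeLib

end
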