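import Groth.Agent.NodalLib.Pointed
import Groth.Agent.NodalLib.DefAmple
import Groth.Agent.GenusZeroLib.Degrees
import Groth.Agent.BlowPtLib.Seq
import Groth.Agent.MiscFlat6.InvDual
import Groth.Agent.PerfBaseLib.RpushTor
import Groth.Agent.QRlimLib.Push
import Groth.Agent.S1766

/-!
# Degree criteria for invertible modules on nodal trees
-/

set_option autoImplicit false
set_option linter.style.haveILetI false
set_option linter.unusedSectionVars false
set_option maxHeartbeats 1000000
set_option synthInstance.maxHeartbeats 200000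
set_option backward.isDefEq.respectTransparency false
set_option backward.isDefEq.respectTransparency.types false

universe u

open CategoryTheory CategoryTheory.Limits AlgebraicGeometry TopologicalSpace
open NefH1Lib.Subcurve
open NefH1Lib.Adj
open Groth.Agent

attribute [local instance] HasDerivedCategory.standard

noncomputable section

namespace NodalTreeLib

/-- Tensoring with an invertible module reflects zero morphisms. -/
theorem eq_zero_of_tensor {X : Scheme.{u}} {G A B : X.Modules} (hG : PicF.IsInvertible G) (φ : A ⟶ B)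
    (h : SerreVanLib.tmap G φ = 0) : φ = 0 := by
  let F := CurvLib.tensorLeft' G
  let S : ShortComplex X.Modules := ShortComplex.mk (kernel.ι φ) (cokernel.π (kernel.ι φ)) (cokernel.condition _)
  have hS : S.ShortExact :=
    { exact := ShortComplex.exact_cokernel _
      mono_f := inferInstanceAs (Mono (kernel.ι φ))
      epi_g := inferInstanceAs (Epi (cokernel.π (kernel.ι φ))) }
  let S' : ShortComplex X.Modules := ShortComplex.mk (Abelian.factorThruCoimage φ)
    (cokernel.π (Abelian.factorThruCoimage φ)) (cokernel.condition _)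
  have hS' : S'.ShortExact :=
    { exact := ShortComplex.exact_cokernel _
      mono_f := inferInstanceAs (Mono (Abelian.factorThruCoimage φ))
      epi_g := inferInstanceAs (Epi (cokernel.π (Abelian.factorThruCoimage φ))) }
  haveI := (HilbPolyLib.shortExact_tensor hG hS).epi_g
  haveI := (HilbPolyLib.shortExact_tensor hG hS').mono_f
  have h1 : F.map (Abelian.coimage.π φ) ≫ F.map (Abelian.factorThruCoimage φ) = 0 := by
    rw [← Functor.map_comp, Abelian.coimage.fac]
    exact h
  have h2 : F.map (Abelian.factorThruCoimage φ) = 0 := by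
    haveI : Epi (F.map (Abelian.coimage.π φ)) := (HilbPolyLib.shortExact_tensor hG hS).epi_g
    exact zero_of_epi_comp _ h1
  haveI : Mono (F.map (Abelian.factorThruCoimage φ)) := (HilbPolyLib.shortExact_tensor hG hS').mono_f
  have h3 : IsZero (F.obj (Abelian.coimage φ)) := IsZero.of_mono_eq_zero _ h2
  have h4 : IsZero (Abelian.coimage φ) := DevissLib.isZero_of_support_empty (by
    rw [← HilbPolyLib.support_tensor hG]
    exact DevissLib.support_of_isZero h3)
  rw [← Abelian.coimage.fac φ, h4.eq_of_tgt (Abelian.coimage.π φ) 0, zero_comp]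

section Field

variable (k : Type u) [Field k] [IsAlgClosed k] {X : Scheme.{u}} [X.Over (Spec (CommRingCat.of k))]
  [IsProper (X ↘ Spec (CommRingCat.of k))] [IsReduced X] [ConnectedSpace X]
  (hdim : topologicalKrullDim X = 1) (hX : Curv2.AtWorstNodal k X)

include hdim hX in
/-- An invertible dualizing module exists. -/
theorem exists_omega : ∃ ω : X.Modules, PicF.IsInvertible ω ∧
    (∀ G : X.Modules, Coh.IsQCoh G → Nonempty ((G ⟶ ω) ≃ₗ[k] Module.Dual k (Coh.HH X G 1))) ∧
    Curv2.euler k X ω = - Curv2.euler k X (Coh.structureModule X) := by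
  haveI := CurvLib.isNoetherian k (X := X)
  let f := X ↘ Spec (CommRingCat.of k)
  haveI : IsLocallyNoetherian X := LocallyOfFiniteType.isLocallyNoetherian f
  haveI : CompactSpace X := QuasiCompact.compactSpace_of_compactSpace f
  haveI : QuasiSeparatedSpace X := quasiSeparatedSpace_of_quasiSeparated f
  haveI : DCoh.HasRpush f := DCohRestrLib.hasRpush _
  have h : DCoh.RpushPreservesQCoh f := fun K hK => QRlimLib.isQCohD_rpush _ hK
  haveI := Groth.Agent.S1766.result X (Spec (CommRingCat.of k)) f h
  let OY : DCoh.DQCoh (Spec (CommRingCat.of k)) :=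
    ⟨DCoh.inD (Spec (CommRingCat.of k)) (Coh.structureModule (Spec (CommRingCat.of k))),
      PerfBaseLib.isQCohD_inD _ QCohLib.isQCoh_unit⟩
  obtain ⟨hdual, hχ⟩ := NefH1Lib.Adj.setup k hdim h OY ⟨Iso.refl _⟩
  exact ⟨_, NodalLib.omega_invertible k hdim (fun x => (NodalLib.stalk_facts k hX x).2) h OY ⟨Iso.refl _⟩, hdual, hχ⟩

include hdim

omit [IsAlgClosed k] in
/-- The degree of the empty set of components. -/
theorem delta_empty {L : X.Modules} (hL : PicF.IsInvertible L) :
    delta k L (ClSub.quotMod (sub (∅ : Set X))) = 0 := by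
  haveI := CurvLib.isNoetherian k (X := X)
  refine delta_eq_zero k hL (CurvLib.isCoh_quotMod _) ((dim_mono (CurvLib.support_quotMod_subset _)).trans ?_)
  rw [support_sub, closure_empty]
  exact topologicalKrullDim_zero_of_discreteTopology _

omit [IsAlgClosed k] in
/-- Splitting off a component. -/
theorem delta_insert {L : X.Modules} (hL : PicF.IsInvertible L) {η : X} {S : Set X} (hηS : η ∉ S)
    (hm : ∀ a ∈ insert η S, IsMaxPt a) :
    delta k L (ClSub.quotMod (sub (insert η S))) =
      dJ k L (sub ({η} : Set X)) + delta k L (ClSub.quotMod (sub S)) := by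
  rw [dJ, deg_subscheme k hL, Set.insert_eq]
  exact delta_union k hdim.le hL (fun a ha => hm a (by rw [Set.mem_singleton_iff.mp ha]; exact Set.mem_insert η S))
    (fun a ha => hm a (Set.mem_insert_of_mem η ha)) fun a ha => by rw [Set.mem_singleton_iff.mp ha]; exact hηS

omit [IsAlgClosed k] in
/-- Degrees are additive in the module. -/
theorem delta_tensor {L M : X.Modules} (hL : PicF.IsInvertible L) (hM : PicF.IsInvertible M) {T : Set X}
    (hTm : ∀ η ∈ T, IsMaxPt η) :
    delta k (CohB1.tensorMod L M) (ClSub.quotMod (sub T)) =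
      delta k L (ClSub.quotMod (sub T)) + delta k M (ClSub.quotMod (sub T)) := by
  have hP := HilbPolyLib.isInvertible_tensor hL hM
  haveI := CurvLib.isNoetherian k (X := X)
  induction T, (finite_maxPts.subset hTm : T.Finite) using Set.Finite.induction_on with
  | empty => rw [delta_empty k hdim hP, delta_empty k hdim hL, delta_empty k hdim hM, add_zero]
  | @insert η S hηS _ ih =>
    rw [delta_insert k hdim hP hηS hTm, delta_insert k hdim hL hηS hTm, delta_insert k hdim hM hηS hTm,
      ih fun a ha => hTm a (Set.mem_insert_of_mem η ha)]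
    obtain ⟨hint, -, -, hd⟩ := facts_single k hdim (hTm η (Set.mem_insert η S))
    let J := sub ({η} : Set X)
    letI : J.subscheme.Over (Spec (CommRingCat.of k)) := ⟨J.subschemeι ≫ (X ↘ Spec (CommRingCat.of k))⟩
    haveI : IsProper (J.subscheme ↘ Spec (CommRingCat.of k)) :=
      inferInstanceAs (IsProper (J.subschemeι ≫ (X ↘ Spec (CommRingCat.of k))))
    haveI : IsIntegral J.subscheme := hint
    obtain ⟨e⟩ := BlowPtLib.nonempty_pb_tensor J.subschemeι L M
    have h1 : dJ k (CohB1.tensorMod L M) J = dJ k L J + dJ k M J :=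
      (CurvLib.deg_congr (k := k) e 1).trans (GenusZeroLib.deg_tensor k hd (AmpleDevLib.isInvertible_pb J.subschemeι hL)
        (AmpleDevLib.isInvertible_pb J.subschemeι hM))
    rw [h1]
    ring

omit [IsAlgClosed k] in
/-- Degrees of an inverse. -/
theorem delta_dual {L M : X.Modules} (hL : PicF.IsInvertible L) (hM : PicF.IsInvertible M)
    (e : CohB1.tensorMod L M ≅ Coh.structureModule X) {T : Set X}
    (hTm : ∀ η ∈ T, IsMaxPt η) :
    delta k M (ClSub.quotMod (sub T)) = - delta k L (ClSub.quotMod (sub T)) := by
  have h := delta_tensor k hdim hL hM hTm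
  have h1 : delta k (CohB1.tensorMod L M) (ClSub.quotMod (sub T)) = 0 := by
    rw [delta, CurvLib.euler_congr (k := k) (HilbPolyLib.congrLeft e _ ≪≫ HilbPolyLib.unitLeft _), sub_self]
  omega

omit [IsAlgClosed k] in
open Classical in
/-- Comparing degrees component by component, with one slack. -/
theorem delta_le {L M : X.Modules} (hL : PicF.IsInvertible L) (hM : PicF.IsInvertible M) (η₀ : X) {T : Set X}
    (hTm : ∀ η ∈ T, IsMaxPt η)
    (h : ∀ η ∈ T, dJ k L (sub ({η} : Set X)) ≤ dJ k M (sub ({η} : Set X)) + (if η = η₀ then 1 else 0)) :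
    delta k L (ClSub.quotMod (sub T)) ≤ delta k M (ClSub.quotMod (sub T)) + (if η₀ ∈ T then 1 else 0) := by
  haveI := CurvLib.isNoetherian k (X := X)
  induction T, (finite_maxPts.subset hTm : T.Finite) using Set.Finite.induction_on with
  | empty => rw [delta_empty k hdim hL, delta_empty k hdim hM]; simp
  | @insert η S hηS _ ih =>
    have h1 := ih (fun a ha => hTm a (Set.mem_insert_of_mem η ha)) fun a ha => h a (Set.mem_insert_of_mem η ha)
    have h2 := h η (Set.mem_insert η S)
    rw [delta_insert k hdim hL hηS hTm, delta_insert k hdim hM hηS hTm]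
    by_cases he : η = η₀
    · subst he
      rw [if_pos (Set.mem_insert η S)]
      rw [if_neg hηS] at h1
      rw [if_pos rfl] at h2
      omega
    · rw [if_neg he] at h2
      by_cases hS : η₀ ∈ S
      · rw [if_pos (Set.mem_insert_of_mem η hS)]
        rw [if_pos hS] at h1
        omega
      · rw [if_neg (fun h => (Set.mem_insert_iff.mp h).elim (fun e => he e.symm) hS)]
        rw [if_neg hS] at h1
        omega

variable {ω : X.Modules} (hω : PicF.IsInvertible ω)
  (hdual : ∀ G : X.Modules, Coh.IsQCoh G → Nonempty ((G ⟶ ω) ≃ₗ[k] Module.Dual k (Coh.HH X G 1)))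
  (hχ : Curv2.euler k X ω = - Curv2.euler k X (Coh.structureModule X))
  (hg : Subsingleton (Coh.HH X (Coh.structureModule X) 1))

include hω hdual hχ hg

/-- No sections when the degrees are small on all subcurves. -/
theorem subsingleton_h0 {L : X.Modules} (hL : PicF.IsInvertible L)
    (h : ∀ J : X.IdealSheafData, IsReduced J.subscheme → ConnectedSpace J.subscheme →
      topologicalKrullDim J.subscheme = 1 → dJ k L J < dJ k ω J + 2) :
    Subsingleton (Coh.HH X L 0) := by
  haveI := CurvLib.isNoetherian k (X := X)
  haveI : EnoughInjectives X.Modules := IsGrothendieckAbelian.enoughInjectives.{u}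
  haveI : HasExt.{u} X.Modules := hasExt_of_enoughInjectives.{u} X.Modules
  have hL' := MiscFlat6.dual_isInvertible hL
  obtain ⟨e⟩ := MiscFlat6.nonempty_dualIso hL
  let G := CohB1.tensorMod ω (MiscFlat6.dual L)
  have hGi : PicF.IsInvertible G := HilbPolyLib.isInvertible_tensor hω hL'
  have hG1 : Subsingleton (Coh.HH X G 1) := subsingleton_h1 k hdim hGi fun J hr hc hd => by
    have h0 := h J hr hc hd
    rw [NodalLib.gJ_eq_zero k hdim hdual hg J]
    obtain ⟨T, B, hTm, -, -, -, -, rfl, -⟩ := exists_sub k hdim J hr hc hd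
    rw [dJ, deg_subscheme k hGi, delta_tensor k hdim hω hL' hTm, delta_dual k hdim hL hL' e hTm]
    rw [dJ, dJ, deg_subscheme k hL, deg_subscheme k hω] at h0
    push_cast
    omega
  obtain ⟨E⟩ := hdual G (CurvLib.isCoh_of_isInvertible hGi).1
  haveI : Subsingleton (Module.Dual k (Coh.HH X G 1)) :=
    ⟨fun a b => LinearMap.ext fun v => by rw [Subsingleton.elim v 0, map_zero, map_zero]⟩
  haveI : Subsingleton (G ⟶ ω) := E.toEquiv.subsingleton
  let j : CohB1.tensorMod G L ≅ ω :=
    HilbPolyLib.assocIso ω (MiscFlat6.dual L) L ≪≫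
      HilbPolyLib.congrRight ω (HilbPolyLib.swapIso _ _ ≪≫ e) ≪≫ HilbPolyLib.swapIso _ _ ≪≫ HilbPolyLib.unitLeft ω
  haveI : Subsingleton (Coh.structureModule X ⟶ L) := subsingleton_of_forall_eq 0 fun φ => by
    refine eq_zero_of_tensor hGi φ ?_
    have h1 : (HilbPolyLib.swapIso G (Coh.structureModule X) ≪≫ HilbPolyLib.unitLeft G).inv ≫
        SerreVanLib.tmap G φ ≫ j.hom = 0 := Subsingleton.elim (α := G ⟶ ω) _ _
    rw [← cancel_epi (HilbPolyLib.swapIso G (Coh.structureModule X) ≪≫ HilbPolyLib.unitLeft G).inv,
      ← cancel_mono j.hom, comp_zero, zero_comp, Category.assoc, h1]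
  exact (NefH1Lib.Subcurve.homUnit (k := k) L).symm.toEquiv.subsingleton

/-- The number of meeting points with the rest is the degree of the dualizing module plus two. -/
theorem dJ_omega_eq {J : X.IdealSheafData} (hr : IsReduced J.subscheme) (hc : ConnectedSpace J.subscheme)
    (hd : topologicalKrullDim J.subscheme = 1) : dJ k ω J = (kJ k J : ℤ) - 2 := by
  rw [deg_dualizing_sub k hdim hω hdual hχ J hr hc hd, NodalLib.gJ_eq_zero k hdim hdual hg J]
  push_cast
  ring

omit hω hdual hχ hg in
include hX in
/-- A subcurve meets the rest in nodes. -/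
theorem kJ_le_nodes {J : X.IdealSheafData} (hr : IsReduced J.subscheme) (hc : ConnectedSpace J.subscheme)
    (hd : topologicalKrullDim J.subscheme = 1) {n : ℕ} (hn : {x : X | Curv2.IsNode k X x}.encard ≤ n) :
    kJ k J ≤ n := by
  haveI := CurvLib.isNoetherian k (X := X)
  rw [NodalLib.kJ_eq_card k hdim hX J hr hc hd, Nat.card_coe_set_eq]
  obtain ⟨h1, h2, h3⟩ := NodalLib.inter_facts k hdim hX J hr hc hd
  obtain ⟨T, B, hTm, hBm, -, hdisj, -, rfl, hv⟩ := exists_sub k hdim J hr hc hd
  have hcl : closure (((sub T).support : Set X)ᶜ) = closure B := by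
    have := congrArg (fun I : X.IdealSheafData => (I.support : Set X)) hv
    simpa [Scheme.IdealSheafData.coe_support_vanishingIdeal, support_sub] using this
  let S := sub T ⊔ Scheme.IdealSheafData.vanishingIdeal ⟨closure (((sub T).support : Set X)ᶜ), isClosed_closure⟩
  have hfin : (S.support : Set X).Finite := by
    haveI : IsLocallyArtinian (Spec (CommRingCat.of k)) := Scheme.isLocallyArtinianScheme_Spec.mpr inferInstance
    let f := S.subschemeι ≫ (X ↘ Spec (CommRingCat.of k))
    haveI : IsLocallyNoetherian S.subscheme := LocallyOfFiniteType.isLocallyNoetherian f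
    haveI : IsLocallyArtinian S.subscheme := .of_topologicalKrullDim_le_zero h2
    haveI : CompactSpace S.subscheme := QuasiCompact.compactSpace_of_compactSpace f
    haveI : DiscreteTopology S.subscheme := inferInstance
    haveI : Finite S.subscheme := finite_of_compact_of_discrete
    rw [← S.range_subschemeι]
    exact Set.finite_range _
  have hsub : (S.support : Set X) ⊆ {x : X | Curv2.IsNode k X x} := fun x hx => by
    rcases hX x (NodalLib.isClosed_of_mem_finite k hfin S.support.isClosed hx) with hs | hnode
    · exfalso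
      obtain ⟨hxT, hxB⟩ := h3.le hx
      rw [support_sub] at hxT
      rw [hcl] at hxB
      have hex : ∀ A : Set X, (∀ η ∈ A, IsMaxPt η) → x ∈ closure A → ∃ η ∈ A, η ⤳ x := fun A hA hxA => by
        have hAf : A.Finite := finite_maxPts.subset hA
        rw [← Set.biUnion_of_singleton A, hAf.closure_biUnion] at hxA
        obtain ⟨η, hη, hηx⟩ := Set.mem_iUnion₂.mp hxA
        exact ⟨η, hη, specializes_iff_mem_closure.mpr hηx⟩
      obtain ⟨a, ha, hax⟩ := hex T hTm hxT
      obtain ⟨b, hb, hbx⟩ := hex B hBm hxB
      exact hdisj a ha (NodalLib.eq_of_specializes_smooth k hs (hTm a ha) (hBm b hb) hax hbx ▸ hb)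
    · exact hnode
  have hle := (Set.encard_le_encard hsub).trans hn
  rw [← h3, ← ENat.coe_le_coe, hfin.cast_ncard_eq]
  exact hle

end Field

end NodalTreeLib

end
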