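import Groth.Agent.NodalTreeLib.Glue

/-!
# Global generation on a tree from the components
-/

set_option autoImplicit false
set_option linter.style.haveILetI false
set_option linter.unusedSectionVars false
set_option maxHeartbeats 1000000
set_option synthInstance.maxHeartbeats 200000
set_option backward.isDefEq.respectTransparency false
set_option backward.isDefEq.respectTransparency.types false

universe u

open CategoryTheory CategoryTheory.Limits AlgebraicGeometry TopologicalSpace
open NefH1Lib.Subcurve
open NefH1Lib.Adj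
open Groth.Agent

attribute [local instance] HasDerivedCategory.standard

noncomputable section

namespace NodalTreeLib

/-- Restrictions to closed subschemes as modules on the ambient scheme. -/
theorem nonempty_push_pull_quot {X : Scheme.{u}} [IsLocallyNoetherian X] (J : X.IdealSheafData) {E : X.Modules}
    (hE : FlatMod.IsFinLocFree E) :
    Nonempty (CohB1.tensorMod E (ClSub.quotMod J) ≅
      (Coh.push J.subschemeι).obj ((Scheme.Modules.pullback J.subschemeι).obj E)) := by
  let i := J.subschemeι
  haveI : IsLocallyNoetherian J.subscheme := LocallyOfFiniteType.isLocallyNoetherian i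
  obtain ⟨eq⟩ := SurfNumLib.quotMod_ker_iso i
  rw [Scheme.IdealSheafData.ker_subschemeι] at eq
  haveI : Coh.IsQCoh (Coh.structureModule J.subscheme) := QCohLib.isQCoh_unit
  let pr := @asIso _ _ _ _ (ProjFormLib.projApp i E (Coh.structureModule J.subscheme))
    (ProjFormLib.isIso_projApp i hE (Coh.structureModule J.subscheme))
  let e2 : CohB1.tensorMod ((Scheme.Modules.pullback i).obj E) (Coh.structureModule J.subscheme) ≅
      (Scheme.Modules.pullback i).obj E :=
    KFlatLib.tensSwap (Coh.structureModule J.subscheme) _ ≪≫ KFlatLib.tensUnitIso _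
  exact ⟨SerreVanLib.tensorCongr E eq ≪≫ pr ≪≫ (Coh.push i).mapIso e2⟩

variable (k : Type u) [Field k] [IsAlgClosed k] {X : Scheme.{u}} [X.Over (Spec (CommRingCat.of k))]
  [IsProper (X ↘ Spec (CommRingCat.of k))] [IsReduced X] [ConnectedSpace X]

include k

/-- Global generation on the components gives it on a tree. -/
theorem gg_of_components (hdim : topologicalKrullDim X = 1)
    (hh1 : ∀ T : Set X, Subsingleton (Coh.HH X (ClSub.quotMod (sub T)) 1))
    {E : X.Modules} (hE : FlatMod.IsFinLocFree E)
    (hcomp : ∀ Z : X.IdealSheafData, IsIntegral Z.subscheme → topologicalKrullDim (Z.support : Set X) = 1 →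
      Curv2.IsGloballyGenerated ((Scheme.Modules.pullback Z.subschemeι).obj E)) :
    Curv2.IsGloballyGenerated E := by
  classical
  haveI := CurvLib.isNoetherian k (X := X)
  obtain ⟨n, hEn⟩ := VBResLib.exists_rank hE
  have hsingle : ∀ η, IsMaxPt η → ConnectedSpace (sub ({η} : Set X)).subscheme ∧
      Curv2.IsGloballyGenerated (EB E ({η} : Set X)) := fun η hη => by
    obtain ⟨hint, -, hc, -⟩ := facts_single k hdim hη
    refine ⟨hc, ?_⟩
    obtain ⟨e⟩ := nonempty_push_pull_quot (sub ({η} : Set X)) hE
    refine MiscFlat6.isGloballyGenerated_of_iso e.symm (BlowRegLib.gg_push_closed _ (hcomp _ hint ?_))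
    rw [support_sub]
    simpa using equidim k (X := X) hdim _ (closure_mem_components hη)
  let good : Set (Set X) := {T | T ⊆ {η : X | IsMaxPt η} ∧ T.Nonempty ∧ ConnectedSpace (sub T).subscheme ∧
    Curv2.IsGloballyGenerated (EB E T)}
  have hfin : good.Finite := (finite_maxPts (X := X)).finite_subsets.subset fun T hT => hT.1
  have hne : good.Nonempty := by
    obtain ⟨η, hη, -⟩ := exists_maxPt (Classical.arbitrary X)
    exact ⟨{η}, Set.singleton_subset_iff.mpr hη, Set.singleton_nonempty η, hsingle η hη⟩
  obtain ⟨T, hTgood, hmax⟩ : ∃ T ∈ good, ∀ S ∈ good, T ⊆ S → S ⊆ T := by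
    obtain ⟨T, hT, hTmax⟩ := hfin.exists_maximal hne
    exact ⟨T, hT, fun S hS h => hTmax hS h⟩
  obtain ⟨hTm, hTne, hTc, hTgg⟩ := hTgood
  by_cases hall : ∀ η : X, IsMaxPt η → η ∈ T
  · obtain ⟨e⟩ := nonempty_quot_all hall
    exact MiscFlat6.isGloballyGenerated_of_iso ((SerreVanLib.tensorCongr E e).symm ≪≫
      KFlatLib.tensSwap (Coh.structureModule X) E ≪≫ KFlatLib.tensUnitIso E) hTgg
  exfalso
  let B : Set X := {η | IsMaxPt η ∧ η ∉ T}
  have hBm : ∀ η ∈ B, IsMaxPt η := fun η h => h.1
  have hBne : B.Nonempty := by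
    by_contra hB
    exact hall fun η hη => by_contra fun h => hB ⟨η, hη, h⟩
  have hu : closure T ∪ closure B = Set.univ := Set.eq_univ_of_forall fun x => by
    obtain ⟨η, hη, hsp⟩ := exists_maxPt x
    by_cases h : η ∈ T
    · exact Or.inl (closure_mono (Set.singleton_subset_iff.mpr h) (specializes_iff_mem_closure.mp hsp))
    · exact Or.inr (closure_mono (Set.singleton_subset_iff.mpr (show η ∈ B from ⟨hη, h⟩))
        (specializes_iff_mem_closure.mp hsp))
  obtain ⟨x, -, hxT, hxB⟩ := isPreconnected_closed_iff.mp isPreconnected_univ (closure T) (closure B) isClosed_closure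
    isClosed_closure hu.ge (hTne.mono fun a ha => ⟨trivial, subset_closure ha⟩)
    (hBne.mono fun a ha => ⟨trivial, subset_closure ha⟩)
  have hBf : B.Finite := finite_maxPts.subset hBm
  obtain ⟨η, hηB, hxη⟩ : ∃ η ∈ B, x ∈ closure ({η} : Set X) := by
    rw [← Set.biUnion_of_singleton B, hBf.closure_biUnion] at hxB
    simpa using hxB
  obtain ⟨hηc, hηgg⟩ := hsingle η hηB.1
  have hcon : ∀ S : Set X, ConnectedSpace (sub S).subscheme → _root_.IsConnected (closure S) := fun S hS => by
    rw [← support_sub, ← (sub S).range_subschemeι]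
    exact isConnected_range (sub S).subschemeι.continuous
  have hUc : ConnectedSpace (sub (T ∪ {η})).subscheme := by
    have h1 : _root_.IsConnected ((sub (T ∪ {η})).support : Set X) := by
      rw [support_sub, closure_union]
      exact _root_.IsConnected.union ⟨x, hxT, hxη⟩ (hcon T hTc) (hcon _ hηc)
    haveI : ConnectedSpace ((sub (T ∪ {η})).support : Set X) := Subtype.connectedSpace h1
    exact ((sub (T ∪ {η})).subschemeι.isEmbedding.toHomeomorph.trans (Homeomorph.setCongr
      (sub (T ∪ {η})).range_subschemeι)).symm.surjective.connectedSpace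
        ((sub (T ∪ {η})).subschemeι.isEmbedding.toHomeomorph.trans (Homeomorph.setCongr
          (sub (T ∪ {η})).range_subschemeι)).symm.continuous
  have hUm : ∀ a ∈ T ∪ {η}, IsMaxPt a := fun a ha => ha.elim (fun h => hTm h)
    (fun h => by rw [Set.mem_singleton_iff.mp h]; exact hηB.1)
  refine hηB.2 (hmax (T ∪ {η}) ⟨hUm, hTne.mono Set.subset_union_left, hUc, ?_⟩ Set.subset_union_left (Or.inr rfl))
  exact gg_union k hdim hh1 hEn hUm rfl hUc hTc hηc hTgg hηgg

end NodalTreeLib

end
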